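import Cfsg.Agent.Spor.Suz22880.U.D0

set_option autoImplicit false
set_option maxRecDepth 100000000
set_option Elab.async false

namespace Cfsg.Agent.Spor.Suz22880.U

theorem sd3 : U.sends [1] 4 6 = true := by decide +kernel

end Cfsg.Agent.Spor.Suz22880.U
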